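import Cfsg.Agent.H900.PQR.Reg

/-!
# Subgroups `SL_m(F)` and `SL_k(K)` of `PSL_n(F)` (helper900, for S3988)
-/

set_option autoImplicit false

namespace Cfsg.Agent.H900.PQR

open Matrix Subgroup
open Cfsg.Agent.H562.PQR (PE NotMin)

section block

variable {F : Type*} [Field F]

/-- `A ↦ diag(A, 1)` -/
def blk (m : ℕ) : SpecialLinearGroup (Fin m) F →* SpecialLinearGroup (Fin (m + 1)) F where
  toFun A := ⟨Matrix.reindex finSumFinEquiv finSumFinEquiv (Matrix.fromBlocks A.1 0 0 (1 : Matrix (Fin 1) (Fin 1) F)), by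
    rw [Matrix.det_reindex_self, Matrix.det_fromBlocks_zero₂₁, Matrix.det_one, mul_one]
    exact A.2⟩
  map_one' := by
    apply Subtype.ext
    show Matrix.reindex _ _ (Matrix.fromBlocks 1 0 0 1) = 1
    rw [Matrix.fromBlocks_one]
    simp
  map_mul' A B := by
    apply Subtype.ext
    show Matrix.reindex _ _ (Matrix.fromBlocks (A.1 * B.1) 0 0 1) =
      Matrix.reindex _ _ (Matrix.fromBlocks A.1 0 0 1) * Matrix.reindex _ _ (Matrix.fromBlocks B.1 0 0 1)
    simp only [Matrix.reindex_apply]
    rw [Matrix.submatrix_mul_equiv, Matrix.fromBlocks_multiply]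
    simp

theorem blk_last (m : ℕ) (A : SpecialLinearGroup (Fin m) F) (i : Fin m) :
    (blk m A).1 (Fin.castSucc i) (Fin.last m) = 0 := by
  show Matrix.reindex _ _ (Matrix.fromBlocks A.1 0 0 1) _ _ = _
  have h1 : (finSumFinEquiv.symm (Fin.castSucc i) : Fin m ⊕ Fin 1) = Sum.inl i := by
    rw [Equiv.symm_apply_eq]; rfl
  have h2 : (finSumFinEquiv.symm (Fin.last m) : Fin m ⊕ Fin 1) = Sum.inr 0 := by
    rw [Equiv.symm_apply_eq]; rfl
  rw [Matrix.reindex_apply, Matrix.submatrix_apply, h1, h2, Matrix.fromBlocks_apply₁₂, Matrix.zero_apply]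

theorem blk_last_last (m : ℕ) (A : SpecialLinearGroup (Fin m) F) :
    (blk m A).1 (Fin.last m) (Fin.last m) = 1 := by
  show Matrix.reindex _ _ (Matrix.fromBlocks A.1 0 0 1) _ _ = _
  have h2 : (finSumFinEquiv.symm (Fin.last m) : Fin m ⊕ Fin 1) = Sum.inr 0 := by
    rw [Equiv.symm_apply_eq]; rfl
  rw [Matrix.reindex_apply, Matrix.submatrix_apply, h2, Matrix.fromBlocks_apply₂₂, Matrix.one_apply_eq]

theorem blk_injective (m : ℕ) : Function.Injective (blk (F := F) m) := by
  intro A B h
  have h1 : Matrix.reindex finSumFinEquiv finSumFinEquiv (Matrix.fromBlocks A.1 0 0 (1 : Matrix (Fin 1) (Fin 1) F)) =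
    Matrix.reindex finSumFinEquiv finSumFinEquiv (Matrix.fromBlocks B.1 0 0 (1 : Matrix (Fin 1) (Fin 1) F)) :=
    congrArg Subtype.val h
  have h2 := (Matrix.reindex _ _).injective h1
  rw [Matrix.fromBlocks_inj] at h2
  exact Subtype.ext h2.1

/-- elements of `PSL` agree iff they differ by a scalar -/
theorem pr_eq {n : ℕ} {A B : SpecialLinearGroup (Fin n) F} (h : pr n F A = pr n F B) :
    ∃ c : F, B.1 = c • A.1 := by
  have h1 : A⁻¹ * B ∈ center (SpecialLinearGroup (Fin n) F) := by
    rw [← QuotientGroup.eq_one_iff]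
    change pr n F (A⁻¹ * B) = 1
    rw [map_mul, map_inv, h, inv_mul_cancel]
  obtain ⟨c, -, hc⟩ := Matrix.SpecialLinearGroup.mem_center_iff.mp h1
  refine ⟨c, ?_⟩
  have h2 : B = A * (A⁻¹ * B) := by group
  have h3 : B.1 = A.1 * (A⁻¹ * B).1 := congrArg Subtype.val h2
  rw [h3, ← hc, Matrix.scalar_apply, ← Matrix.smul_one_eq_diagonal, Matrix.mul_smul, mul_one]

/-- a transvection -/
def tv (n : ℕ) (i j : Fin n) (h : i ≠ j) : SpecialLinearGroup (Fin n) F :=
  ⟨Matrix.transvection i j (1 : F), Matrix.det_transvection_of_ne _ _ h 1⟩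

/-- **`SL_m(F) → PSL_{m+1}(F)`** -/
theorem notMin_block [Finite F] {m : ℕ} (hm : 1 ≤ m) {p : ℕ} (hp : p.Prime)
    [IsSimpleGroup (ProjectiveSpecialLinearGroup (Fin m) F)]
    (hna : ∃ x y : ProjectiveSpecialLinearGroup (Fin m) F, x * y ≠ y * x)
    (hd : p ∣ Nat.card (ProjectiveSpecialLinearGroup (Fin m) F)) :
    NotMin p (ProjectiveSpecialLinearGroup (Fin (m + 1)) F) := by
  refine NotMin.of_hom hna hp hd ((pr (m + 1) F).comp (blk m)) (pr m F) (QuotientGroup.mk'_surjective _) ?_ ?_
  · intro A hA
    rw [MonoidHom.mem_ker, MonoidHom.comp_apply, ← map_one (pr (m + 1) F)] at hA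
    obtain ⟨c, hc⟩ := pr_eq hA
    have h1 := congrFun (congrFun hc (Fin.last m)) (Fin.last m)
    rw [Matrix.smul_apply, blk_last_last, smul_eq_mul, mul_one] at h1
    have h2 : c = 1 := by rw [← h1]; exact Matrix.one_apply_eq _
    rw [h2, one_smul] at hc
    have h3 : blk m A = 1 := Subtype.ext hc.symm
    have h4 : A = 1 := blk_injective m (by rw [h3, map_one])
    rw [h4]
    exact one_mem _
  · intro hsurj
    have hne : (Fin.castSucc (⟨0, hm⟩ : Fin m)) ≠ Fin.last m := (Fin.castSucc_lt_last _).ne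
    obtain ⟨A, hA⟩ := hsurj (pr (m + 1) F (tv (m + 1) (Fin.castSucc ⟨0, hm⟩) (Fin.last m) hne))
    rw [MonoidHom.comp_apply] at hA
    obtain ⟨c, hc⟩ := pr_eq hA
    have h1 := congrFun (congrFun hc (Fin.castSucc ⟨0, hm⟩)) (Fin.last m)
    rw [Matrix.smul_apply, blk_last, smul_zero] at h1
    have h2 : (tv (F := F) (m + 1) (Fin.castSucc ⟨0, hm⟩) (Fin.last m) hne).1 (Fin.castSucc ⟨0, hm⟩) (Fin.last m) = 1 := by
      show Matrix.transvection _ _ (1 : F) _ _ = 1
      rw [Matrix.transvection, Matrix.add_apply, Matrix.one_apply_ne hne, zero_add, Matrix.single_apply_same]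
    rw [h2] at h1
    exact one_ne_zero h1

end block

section restrict

variable {F : Type*} [Field F] {K : Type*} [Field K] [Algebra F K] [Module.Finite F K] {k n : ℕ}

/-- restriction of scalars `SL_k(K) → SL_n(F)`, `n = k [K : F]` -/
noncomputable def res (b : Module.Basis (Fin n) F (Fin k → K)) :
    SpecialLinearGroup (Fin k) K →* SpecialLinearGroup (Fin n) F where
  toFun A := ⟨LinearMap.toMatrix b b ((Matrix.toLin' A.1).restrictScalars F), by
    rw [LinearMap.det_toMatrix, LinearMap.det_restrictScalars, LinearMap.det_toLin']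
    rw [A.2, map_one]⟩
  map_one' := by
    apply Subtype.ext
    show LinearMap.toMatrix b b ((Matrix.toLin' (1 : Matrix (Fin k) (Fin k) K)).restrictScalars F) = 1
    rw [Matrix.toLin'_one]
    exact LinearMap.toMatrix_id b
  map_mul' A B := by
    apply Subtype.ext
    show LinearMap.toMatrix b b ((Matrix.toLin' (A.1 * B.1)).restrictScalars F) =
      LinearMap.toMatrix b b ((Matrix.toLin' A.1).restrictScalars F) *
        LinearMap.toMatrix b b ((Matrix.toLin' B.1).restrictScalars F)
    rw [← LinearMap.toMatrix_comp b b b, Matrix.toLin'_mul]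
    rfl

theorem coe_res (b : Module.Basis (Fin n) F (Fin k → K)) (A : SpecialLinearGroup (Fin k) K) :
    (res b A).1 = LinearMap.toMatrix b b ((Matrix.toLin' A.1).restrictScalars F) := rfl

/-- **`SL_k(K) → PSL_n(F)`** -/
theorem notMin_res [Finite F] [Finite K] (hkn : Module.finrank F K * k = n) (hK : 2 ≤ Module.finrank F K) (hk : 1 ≤ k)
    {p : ℕ} (hp : p.Prime)
    [IsSimpleGroup (ProjectiveSpecialLinearGroup (Fin k) K)]
    (hna : ∃ x y : ProjectiveSpecialLinearGroup (Fin k) K, x * y ≠ y * x)
    (hd : p ∣ Nat.card (ProjectiveSpecialLinearGroup (Fin k) K)) :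
    NotMin p (ProjectiveSpecialLinearGroup (Fin n) F) := by
  have hfin : Module.finrank F (Fin k → K) = n := by
    rw [Module.finrank_pi_fintype]
    simp only [Finset.sum_const, Finset.card_univ, Fintype.card_fin, smul_eq_mul]
    rw [mul_comm]
    exact hkn
  let b : Module.Basis (Fin n) F (Fin k → K) := Module.finBasisOfFinrankEq F (Fin k → K) hfin
  refine NotMin.of_hom hna hp hd ((pr n F).comp (res b)) (pr k K) (QuotientGroup.mk'_surjective _) ?_ ?_
  · intro A hA
    rw [MonoidHom.mem_ker, MonoidHom.comp_apply, ← map_one (pr n F)] at hA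
    obtain ⟨c, hc⟩ := pr_eq hA.symm
    change (res b A).1 = c • (1 : Matrix (Fin n) (Fin n) F) at hc
    have h1 : (Matrix.toLin' A.1).restrictScalars F = c • (LinearMap.id : (Fin k → K) →ₗ[F] (Fin k → K)) := by
      apply (LinearMap.toMatrix b b).injective
      rw [map_smul, LinearMap.toMatrix_id, ← coe_res, hc]
    rw [MonoidHom.mem_ker]
    change QuotientGroup.mk' _ A = 1
    rw [QuotientGroup.mk'_apply, QuotientGroup.eq_one_iff, Matrix.SpecialLinearGroup.mem_center_iff]
    have h2 : A.1 = scalar (Fin k) (algebraMap F K c) := by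
      apply Matrix.toLin'.injective
      apply LinearMap.ext
      intro v
      have h3 := LinearMap.congr_fun h1 v
      rw [LinearMap.restrictScalars_apply, LinearMap.smul_apply, LinearMap.id_apply] at h3
      rw [h3, Matrix.toLin'_apply, Matrix.scalar_apply, ← Matrix.smul_one_eq_diagonal, Matrix.smul_mulVec,
        Matrix.one_mulVec, algebraMap_smul]
    refine ⟨algebraMap F K c, ?_, h2.symm⟩
    have h3 := A.2
    rw [h2, Matrix.scalar_apply, Matrix.det_diagonal, Finset.prod_const, Finset.card_univ] at h3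
    exact h3
  · intro hsurj
    have hn : 2 ≤ n := by
      rw [← hkn]
      exact hK.trans (Nat.le_mul_of_pos_right _ hk)
    let i : Fin n := ⟨0, by omega⟩
    let j : Fin n := ⟨1, by omega⟩
    have hij : i ≠ j := fun h => absurd (congrArg Fin.val h) (by simp [i, j])
    obtain ⟨A, hA⟩ := hsurj (pr n F (tv n i j hij))
    rw [MonoidHom.comp_apply] at hA
    obtain ⟨c, hc⟩ := pr_eq hA
    -- the transvection is `K`-linear
    have h1 : Matrix.toLin b b (Matrix.transvection i j (1 : F)) = c • ((Matrix.toLin' A.1).restrictScalars F) := by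
      apply (LinearMap.toMatrix b b).injective
      rw [LinearMap.toMatrix_toLin, map_smul, ← coe_res]
      exact hc
    have h2 : ∀ (x : K) (v : Fin k → K), Matrix.toLin b b (Matrix.transvection i j (1 : F)) (x • v) =
        x • Matrix.toLin b b (Matrix.transvection i j (1 : F)) v := by
      intro x v
      rw [h1, LinearMap.smul_apply, LinearMap.smul_apply, LinearMap.restrictScalars_apply,
        LinearMap.restrictScalars_apply, map_smul, smul_comm]
    have h3 : ∀ v, Matrix.toLin b b (Matrix.transvection i j (1 : F)) v = v + b.repr v j • b i := by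
      intro v
      rw [Matrix.transvection, map_add, Matrix.toLin_one, LinearMap.add_apply, LinearMap.id_apply]
      congr 1
      rw [Matrix.toLin_apply, Finset.sum_eq_single i]
      · rw [Matrix.single_mulVec]
        simp
      · intro l _ hl
        rw [Matrix.single_mulVec]
        simp [hl]
      · intro h
        exact absurd (Finset.mem_univ _) h
    have h4 : ∀ x : K, b.repr (x • b j) j • b i = x • b i := by
      intro x
      have h5 := h2 x (b j)
      rw [h3, h3, b.repr_self, Finsupp.single_eq_same, one_smul, smul_add] at h5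
      exact add_left_cancel h5
    -- `K` has dimension one
    have h5 : ∀ x : K, ∃ a : F, algebraMap F K a = x := by
      intro x
      refine ⟨b.repr (x • b j) j, ?_⟩
      have h6 := h4 x
      rw [← algebraMap_smul K, ← sub_eq_zero, ← sub_smul] at h6
      exact sub_eq_zero.1 ((smul_eq_zero.1 h6).resolve_right (b.ne_zero i))
    have h6 : Module.finrank F K = 1 := by
      have h7 : Function.Bijective (algebraMap F K) := ⟨(algebraMap F K).injective, h5⟩
      have e : F ≃ₗ[F] K := LinearEquiv.ofBijective (Algebra.linearMap F K) h7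
      rw [← e.finrank_eq, Module.finrank_self]
    omega

end restrict

end Cfsg.Agent.H900.PQR
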