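import Mathlib
import Cfsg.Agent.H562.PQR.Iface


/-!
# Regular semisimple elements of `PSL_n(F)` given by a polynomial (helper900, for S3988)

For a monic polynomial `f` of degree `n` over a finite field of characteristic `r` with `(-1)^n f(0) = 1` and
`f ∣ X ^ (b ^ k) - 1`, `b ≠ r`, multiplication by the root of `f` on `F[X]/(f)` gives an element of `PSL_n(F)` of
`b`-power order whose centraliser has order prime to `r`.
-/

set_option autoImplicit false

namespace Cfsg.Agent.H900.PQR

open Matrix Polynomial

section matrix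

variable {F : Type*} [Field F]

/-- Multiplication by the root of `f`. -/
theorem exists_regular {n : ℕ} {f : F[X]} (hf : f.Monic) (hn : f.natDegree = n) (hsq : Squarefree f) :
    ∃ A : Matrix (Fin n) (Fin n) F, A.det = (-1) ^ n * f.coeff 0 ∧ (∀ g : F[X], aeval A g = 0 ↔ f ∣ g) ∧
      ∀ N : Matrix (Fin n) (Fin n) F, N * A = A * N → IsNilpotent N → N = 0 := by
  classical
  let pb := AdjoinRoot.powerBasis' hf
  have hdim : pb.dim = n := hn
  let b : Module.Basis (Fin n) F (AdjoinRoot f) := pb.basis.reindex (finCongr hdim)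
  let A : Matrix (Fin n) (Fin n) F := Algebra.leftMulMatrix b (AdjoinRoot.root f)
  have haeval : ∀ g : F[X], aeval A g = Algebra.leftMulMatrix b (AdjoinRoot.mk f g) := by
    intro g
    rw [← AdjoinRoot.aeval_eq, Polynomial.aeval_algHom_apply]
  have hzero : ∀ g : F[X], aeval A g = 0 ↔ f ∣ g := by
    intro g
    rw [haeval, ← AdjoinRoot.mk_eq_zero]
    constructor
    · intro h
      exact Algebra.leftMulMatrix_injective b (by rw [h, map_zero])
    · intro h
      rw [h, map_zero]
  refine ⟨A, ?_, hzero, ?_⟩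
  · rw [← Algebra.norm_eq_matrix_det b]
    have h1 : AdjoinRoot.root f = pb.gen := (AdjoinRoot.powerBasis'_gen hf).symm
    rw [h1, Algebra.PowerBasis.norm_gen_eq_coeff_zero_minpoly, ← h1, AdjoinRoot.minpoly_root hf.ne_zero, hf.leadingCoeff,
      inv_one, map_one, mul_one, hdim]
  · intro N hN hnil
    let T : AdjoinRoot f →ₗ[F] AdjoinRoot f := Matrix.toLin b b N
    have hTN : LinearMap.toMatrix b b T = N := LinearMap.toMatrix_toLin b b N
    have hAT : A = LinearMap.toMatrix b b (LinearMap.mulLeft F (AdjoinRoot.root f)) := rfl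
    have hcomm : T ∘ₗ LinearMap.mulLeft F (AdjoinRoot.root f) = LinearMap.mulLeft F (AdjoinRoot.root f) ∘ₗ T := by
      apply (LinearMap.toMatrix b b).injective
      rw [LinearMap.toMatrix_comp b b b, LinearMap.toMatrix_comp b b b, hTN, ← hAT, hN]
    have hroot : ∀ z, T (AdjoinRoot.root f * z) = AdjoinRoot.root f * T z := by
      intro z
      exact LinearMap.congr_fun hcomm z
    have hpow : ∀ (i : ℕ) z, T (AdjoinRoot.root f ^ i * z) = AdjoinRoot.root f ^ i * T z := by
      intro i
      induction i with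
      | zero => intro z; simp
      | succ i ih => intro z; rw [pow_succ, mul_assoc, ih, hroot, mul_assoc]
    have hmk : ∀ g : F[X], T (AdjoinRoot.mk f g) = AdjoinRoot.mk f g * T 1 := by
      intro g
      induction g using Polynomial.induction_on' with
      | add p q hp hq => rw [map_add, map_add, hp, hq, add_mul]
      | monomial i a =>
        have h1 : AdjoinRoot.mk f (monomial i a) = a • (AdjoinRoot.root f ^ i) := by
          rw [← C_mul_X_pow_eq_monomial, map_mul, map_pow, AdjoinRoot.mk_X, Algebra.smul_def]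
          rfl
        rw [h1, map_smul, smul_mul_assoc]
        congr 1
        have := hpow i 1
        rwa [mul_one] at this
    obtain ⟨β, hβ⟩ := AdjoinRoot.mk_surjective (T 1)
    have hT : N = Algebra.leftMulMatrix b (AdjoinRoot.mk f β) := by
      rw [← hTN]
      show LinearMap.toMatrix b b T = LinearMap.toMatrix b b (LinearMap.mulLeft F (AdjoinRoot.mk f β))
      congr 1
      apply LinearMap.ext
      intro z
      obtain ⟨g, rfl⟩ := AdjoinRoot.mk_surjective z
      rw [hmk, ← hβ, mul_comm]
      rfl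
    obtain ⟨k, hk⟩ := hnil
    have h1 : f ∣ β ^ (k + 1) := by
      rw [← AdjoinRoot.mk_eq_zero]
      apply Algebra.leftMulMatrix_injective b
      rw [map_pow, map_pow, ← hT, pow_succ, hk, zero_mul, map_zero]
    have h2 : f ∣ β := (hsq.dvd_pow_iff_dvd (Nat.succ_ne_zero k)).1 h1
    rw [hT, AdjoinRoot.mk_eq_zero.2 h2, map_zero]

end matrix

section cent

variable {F : Type*} [Field F] [Finite F] {n : ℕ}

open Subgroup

/-- the centre of `SL_n` has order prime to the characteristic -/
theorem not_dvd_center {r : ℕ} [hr : Fact r.Prime] [CharP F r] :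
    ¬ r ∣ Nat.card (center (SpecialLinearGroup (Fin n) F)) := by
  intro h
  obtain ⟨z, hz⟩ := exists_prime_orderOf_dvd_card' r h
  obtain ⟨c, hc, hc'⟩ := Matrix.SpecialLinearGroup.mem_center_iff.mp z.2
  have h1 : (z : SpecialLinearGroup (Fin n) F) ^ r = 1 := by
    have := pow_orderOf_eq_one z
    rw [hz] at this
    exact congrArg Subtype.val this
  have h2 : (scalar (Fin n) c) ^ r = 1 := by
    rw [hc']
    exact congrArg Subtype.val h1
  have h3 : (z : SpecialLinearGroup (Fin n) F) = 1 := by
    apply Subtype.ext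
    rw [← hc']
    rcases isEmpty_or_nonempty (Fin n) with hE | hE
    · exact Subsingleton.elim _ _
    · have h4 : scalar (Fin n) (c ^ r) = scalar (Fin n) (1 : F) := by rw [map_pow, h2, map_one]
      have h5 : c ^ r = 1 := Matrix.scalar_inj.1 h4
      have h6 : (c - 1) ^ r = 0 := by rw [sub_pow_char, h5, one_pow, sub_self]
      have h7 : c = 1 := sub_eq_zero.1 (pow_eq_zero_iff hr.out.ne_zero |>.1 h6)
      rw [h7, map_one]
      rfl
  have h4 : z = 1 := Subtype.ext h3
  rw [h4, orderOf_one] at hz
  exact hr.out.one_lt.ne hz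

/-- the projection -/
abbrev pr (n : ℕ) (F : Type*) [Field F] : SpecialLinearGroup (Fin n) F →* ProjectiveSpecialLinearGroup (Fin n) F :=
  QuotientGroup.mk' (center (SpecialLinearGroup (Fin n) F))

/-- the centraliser in `PSL_n` of an element with reduced commutant -/
theorem not_dvd_centralizer {r : ℕ} [hr : Fact r.Prime] [CharP F r] (A : SpecialLinearGroup (Fin n) F)
    (hred : ∀ N : Matrix (Fin n) (Fin n) F, N * A.1 = A.1 * N → IsNilpotent N → N = 0) :
    ¬ r ∣ Nat.card (centralizer ({pr n F A} : Set (ProjectiveSpecialLinearGroup (Fin n) F))) := by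
  intro h
  have hfin : Finite (ProjectiveSpecialLinearGroup (Fin n) F) := inferInstance
  obtain ⟨u, hu⟩ := exists_prime_orderOf_dvd_card' r h
  obtain ⟨U, hU⟩ := QuotientGroup.mk'_surjective (center (SpecialLinearGroup (Fin n) F)) (u : ProjectiveSpecialLinearGroup (Fin n) F)
  set m := Nat.card (center (SpecialLinearGroup (Fin n) F)) with hm
  have hrm : ¬ r ∣ m := not_dvd_center
  have hord : orderOf (u : ProjectiveSpecialLinearGroup (Fin n) F) = r := by rw [Subgroup.orderOf_coe, hu]
  have hUr : U ^ r ∈ center (SpecialLinearGroup (Fin n) F) := by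
    rw [← QuotientGroup.eq_one_iff]
    change pr n F (U ^ r) = 1
    rw [map_pow]
    change (QuotientGroup.mk' _ U) ^ r = 1
    rw [hU, ← hord, pow_orderOf_eq_one]
  -- the `r`-element
  set V := U ^ m with hV
  have hVr : V ^ r = 1 := by
    rw [hV, ← pow_mul, mul_comm, pow_mul]
    have := pow_card_eq_one' (x := (⟨U ^ r, hUr⟩ : center (SpecialLinearGroup (Fin n) F)))
    exact congrArg Subtype.val this
  have hV1 : pr n F V ≠ 1 := by
    rw [hV, map_pow]
    change (QuotientGroup.mk' _ U) ^ m ≠ 1
    rw [hU]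
    intro h1
    have := orderOf_dvd_of_pow_eq_one h1
    rw [hord] at this
    exact hrm this
  have hcomm : pr n F V * pr n F A = pr n F A * pr n F V := by
    have h1 : (u : ProjectiveSpecialLinearGroup (Fin n) F) * pr n F A = pr n F A * u :=
      mem_centralizer_singleton_iff.1 u.2
    have h2 : Commute (u : ProjectiveSpecialLinearGroup (Fin n) F) (pr n F A) := h1
    rw [hV, map_pow]
    change (QuotientGroup.mk' _ U) ^ m * _ = _ * (QuotientGroup.mk' _ U) ^ m
    rw [hU]
    exact (h2.pow_left m).eq
  have hz : V * A * V⁻¹ * A⁻¹ ∈ center (SpecialLinearGroup (Fin n) F) := by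
    rw [← QuotientGroup.eq_one_iff]
    change pr n F (V * A * V⁻¹ * A⁻¹) = 1
    rw [map_mul, map_mul, map_mul, map_inv, map_inv, hcomm, mul_inv_cancel_right, mul_inv_cancel]
  set z := V * A * V⁻¹ * A⁻¹ with hzdef
  have hpow : ∀ k : ℕ, V ^ k * A * (V ^ k)⁻¹ = z ^ k * A := by
    intro k
    induction k with
    | zero => simp
    | succ k ih =>
      have h1 : V * A * V⁻¹ = z * A := by rw [hzdef]; group
      have h2 : V ^ (k + 1) * A * (V ^ (k + 1))⁻¹ = V * (V ^ k * A * (V ^ k)⁻¹) * V⁻¹ := by
        rw [pow_succ']; group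
      rw [h2, ih]
      have h3 : ∀ g, g * z ^ k = z ^ k * g := fun g =>
        (mem_center_iff.1 (pow_mem hz k) g)
      calc V * (z ^ k * A) * V⁻¹ = z ^ k * (V * A * V⁻¹) := by rw [← mul_assoc, h3 V]; group
        _ = z ^ (k + 1) * A := by rw [h1, pow_succ]; group
  have hzr : z ^ r = 1 := by
    have h1 := hpow r
    rw [hVr, inv_one, mul_one, one_mul] at h1
    exact (mul_eq_right.1 h1.symm)
  have hzm : z ^ m = 1 := by
    have := pow_card_eq_one' (x := (⟨z, hz⟩ : center (SpecialLinearGroup (Fin n) F)))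
    exact congrArg Subtype.val this
  have hz1 : z = 1 := by
    have h1 : z ^ (Nat.gcd r m) = 1 := pow_gcd_eq_one.2 ⟨hzr, hzm⟩
    rwa [(Nat.Prime.coprime_iff_not_dvd hr.out).2 hrm, pow_one] at h1
  have hVA : V * A = A * V := by
    have h1 := hpow 1
    rw [pow_one, pow_one, hz1, one_mul] at h1
    exact mul_inv_eq_iff_eq_mul.1 h1
  have hN : (V.1 - 1) = 0 := by
    apply hred
    · have h1 : V.1 * A.1 = A.1 * V.1 := congrArg Subtype.val hVA
      rw [sub_mul, mul_sub, h1, one_mul, mul_one]
    · refine ⟨r, ?_⟩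
      have : CharP (Matrix (Fin n) (Fin n) F) r ∨ IsEmpty (Fin n) := by
        rcases isEmpty_or_nonempty (Fin n) with hE | hE
        · exact Or.inr hE
        · exact Or.inl inferInstance
      rcases this with h1 | h1
      · have h2 := sub_pow_char_of_commute (R := Matrix (Fin n) (Fin n) F) (p := r) (Commute.one_right V.1)
        have h3 : V.1 ^ r = 1 := congrArg Subtype.val hVr
        rw [h2, one_pow, h3, sub_self]
      · exact Subsingleton.elim _ _
  apply hV1
  have h1 : V = 1 := Subtype.ext (sub_eq_zero.1 hN)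
  rw [h1, map_one]

end cent

end Cfsg.Agent.H900.PQR
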